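import Cfsg.Agent.H56.Inv.E62Data.Defs

/-!
The chains of the certificate.
-/
set_option autoImplicit false
set_option maxRecDepth 100000

namespace Cfsg.Agent.H56.Inv.E62

open Cfsg.Lie Cfsg.Agent Cfsg.Agent.H56.Inv Cfsg.Agent.H56.Inv.Tw

theorem chain1_ok : ∃ j < 3, ∃ ch, chainB chevE6 rho [36, 56] ch (reps.getD j []) = true :=
  ⟨1, by omega,
    [(Mv.ref 4 2, [38, 57]), (Mv.ref 5 0, [37, 42])],
    by decide +kernel⟩

theorem chain2_ok : ∃ j < 3, ∃ ch, chainB chevE6 rho [37, 42] ch (reps.getD j []) = true :=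
  ⟨1, by omega,
    [],
    by decide +kernel⟩

theorem chain3_ok : ∃ j < 3, ∃ ch, chainB chevE6 rho [39] ch (reps.getD j []) = true :=
  ⟨0, by omega,
    [(Mv.ref 1 1, [47]), (Mv.ref 3 3, [46])],
    by decide +kernel⟩

theorem chain4_ok : ∃ j < 3, ∃ ch, chainB chevE6 rho [46] ch (reps.getD j []) = true :=
  ⟨0, by omega,
    [],
    by decide +kernel⟩

theorem chain5_ok : ∃ j < 3, ∃ ch, chainB chevE6 rho [39, 36, 56] ch (reps.getD j []) = true :=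
  ⟨2, by omega,
    [(Mv.ref 1 1, [36, 47, 56]), (Mv.ref 3 3, [36, 46, 56])],
    by decide +kernel⟩

theorem chain6_ok : ∃ j < 3, ∃ ch, chainB chevE6 rho [46, 36, 56] ch (reps.getD j []) = true :=
  ⟨2, by omega,
    [],
    by decide +kernel⟩

theorem chain7_ok : ∃ j < 3, ∃ ch, chainB chevE6 rho [36, 56, 69] ch (reps.getD j []) = true :=
  ⟨2, by omega,
    [(Mv.cj (1, 1) [], [32, 36, 56, 69]), (Mv.cj (70, 70) [69], [32, 36, 56]), (Mv.cj (47,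
    47) [], [32, 36, 46, 56]), (Mv.cj (24, 24) [32], [36, 46, 56])],
    by decide +kernel⟩

theorem chain8_ok : ∃ j < 3, ∃ ch, chainB chevE6 rho [46, 37, 42] ch (reps.getD j []) = true :=
  ⟨2, by omega,
    [(Mv.ref 5 0, [38, 46, 57]), (Mv.ref 4 2, [36, 46, 56])],
    by decide +kernel⟩

theorem chain9_ok : ∃ j < 3, ∃ ch, chainB chevE6 rho [37, 42, 53] ch (reps.getD j []) = true :=
  ⟨2, by omega,
    [(Mv.ref 3 3, [40, 43, 51]), (Mv.ref 4 2, [40, 43, 47]), (Mv.ref 3 3, [37, 42, 46]),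
    (Mv.ref 5 0, [38, 46, 57]), (Mv.ref 4 2, [36, 46, 56])],
    by decide +kernel⟩

theorem chain10_ok : ∃ j < 3, ∃ ch, chainB chevE6 rho [37, 42, 60] ch (reps.getD j []) = true :=
  ⟨2, by omega,
    [(Mv.ref 5 0, [38, 44, 57]), (Mv.ref 4 2, [36, 39, 56]), (Mv.ref 1 1, [36, 47, 56]),
    (Mv.ref 3 3, [36, 46, 56])],
    by decide +kernel⟩

theorem chain11_ok : ∃ j < 3, ∃ ch, chainB chevE6 rho [39, 44] ch (reps.getD j []) = true :=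
  ⟨1, by omega,
    [(Mv.ref 3 3, [32, 44]), (Mv.cj (40, 43) [44], [32, 37, 42]), (Mv.mu (28, 31), [37,
    42])],
    by decide +kernel⟩

theorem chain12_ok : ∃ j < 3, ∃ ch, chainB chevE6 rho [39, 48, 50] ch (reps.getD j []) = true :=
  ⟨2, by omega,
    [(Mv.ref 1 1, [40, 43, 47]), (Mv.ref 3 3, [37, 42, 46]), (Mv.ref 5 0, [38, 46, 57]),
    (Mv.ref 4 2, [36, 46, 56])],
    by decide +kernel⟩

theorem chain13_ok : ∃ j < 3, ∃ ch, chainB chevE6 rho [46, 53] ch (reps.getD j []) = true :=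
  ⟨1, by omega,
    [(Mv.ref 1 1, [25, 53]), (Mv.ref 3 3, [24, 51]), (Mv.cj (48, 50) [51], [24, 37, 42]),
    (Mv.mu (21, 23), [37, 42])],
    by decide +kernel⟩

theorem chain14_ok : ∃ j < 3, ∃ ch, chainB chevE6 rho [39, 36, 56, 71] ch (reps.getD j []) = true :=
  ⟨2, by omega,
    [(Mv.ref 3 3, [32, 36, 56, 71]), (Mv.ref 5 0, [15, 32, 35, 71]), (Mv.ref 4 2, [14, 27,
    33, 71]), (Mv.ref 1 1, [14, 20, 33, 70]), (Mv.ref 3 3, [13, 18, 30, 69]), (Mv.ref 4 2,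
    [12, 18, 26, 65]), (Mv.ref 1 1, [9, 18, 19, 65]), (Mv.ref 3 3, [7, 17, 20, 63]),
    (Mv.ref 5 0, [7, 8, 17, 51]), (Mv.ref 4 2, [4, 8, 16, 47]), (Mv.ref 1 1, [4, 11, 16,
    39]), (Mv.ref 3 3, [4, 11, 16, 32]), (Mv.cj (9, 19) [], [0, 4, 7, 11, 16, 17, 32]),
    (Mv.cj (52, 62) [32, 32, 7, 17], [0, 4, 11, 16, 28, 31]), (Mv.cj (9, 19) [4, 16], [0,
    11, 28, 31]), (Mv.frame [28, 31, 0, 48, 50, 8, 5, 3, 46, 1, 11], [0, 28, 31]), (Mv.ref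
    1 1, [1, 21, 23]), (Mv.cj (49, 61) [], [1, 21, 23, 36, 56]), (Mv.cj (10, 22) [21, 23],
    [1, 36, 56]), (Mv.cj (71, 71) [], [1, 36, 46, 56]), (Mv.cj (0, 0) [1], [36, 46, 56])],
    by decide +kernel⟩

theorem chain15_ok : ∃ j < 3, ∃ ch, chainB chevE6 rho [46, 36, 56, 69] ch (reps.getD j []) = true :=
  ⟨2, by omega,
    [(Mv.ref 5 0, [15, 35, 46, 69]), (Mv.ref 4 2, [14, 33, 46, 65]), (Mv.ref 1 1, [14, 25,
    33, 65]), (Mv.ref 3 3, [13, 24, 30, 63]), (Mv.ref 4 2, [12, 20, 26, 63]), (Mv.ref 1 1,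
    [9, 19, 27, 60]), (Mv.ref 3 3, [7, 17, 27, 60]), (Mv.ref 5 0, [7, 11, 17, 44]),
    (Mv.ref 4 2, [4, 11, 16, 39]), (Mv.ref 3 3, [4, 11, 16, 32]), (Mv.cj (9, 19) [], [0,
    4, 7, 11, 16, 17, 32]), (Mv.cj (52, 62) [32, 32, 7, 17], [0, 4, 11, 16, 28, 31]),
    (Mv.cj (9, 19) [4, 16], [0, 11, 28, 31]), (Mv.frame [28, 31, 0, 48, 50, 8, 5, 3, 46,
    1, 11], [0, 28, 31]), (Mv.ref 1 1, [1, 21, 23]), (Mv.cj (49, 61) [], [1, 21, 23, 36,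
    56]), (Mv.cj (10, 22) [21, 23], [1, 36, 56]), (Mv.cj (71, 71) [], [1, 36, 46, 56]),
    (Mv.cj (0, 0) [1], [36, 46, 56])],
    by decide +kernel⟩

theorem chain16_ok : ∃ j < 3, ∃ ch, chainB chevE6 rho [46, 37, 42, 53] ch (reps.getD j []) = true :=
  ⟨2, by omega,
    [(Mv.ref 4 2, [29, 34, 46, 53]), (Mv.ref 1 1, [25, 29, 34, 53]), (Mv.ref 3 3, [24, 28,
    31, 51]), (Mv.ref 4 2, [20, 28, 31, 47]), (Mv.ref 1 1, [21, 23, 27, 39]), (Mv.ref 3 3,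
    [21, 23, 27, 32]), (Mv.ref 5 0, [10, 11, 22, 32]), (Mv.ref 4 2, [9, 11, 19, 27]),
    (Mv.ref 3 3, [7, 11, 17, 27]), (Mv.cj (10, 22) [], [0, 4, 7, 11, 16, 17, 27]), (Mv.cj
    (49, 61) [4, 16, 27, 27], [0, 7, 11, 17, 28, 31]), (Mv.cj (10, 22) [7, 17], [0, 11,
    28, 31]), (Mv.frame [28, 31, 0, 48, 50, 8, 5, 3, 46, 1, 11], [0, 28, 31]), (Mv.ref 1
    1, [1, 21, 23]), (Mv.cj (49, 61) [], [1, 21, 23, 36, 56]), (Mv.cj (10, 22) [21, 23],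
    [1, 36, 56]), (Mv.cj (71, 71) [], [1, 36, 46, 56]), (Mv.cj (0, 0) [1], [36, 46, 56])],
    by decide +kernel⟩

theorem chain17_ok : ∃ j < 3, ∃ ch, chainB chevE6 rho [37, 42, 60, 71] ch (reps.getD j []) = true :=
  ⟨2, by omega,
    [(Mv.ref 4 2, [29, 34, 60, 71]), (Mv.ref 3 3, [28, 31, 60, 71]), (Mv.ref 5 0, [13, 30,
    44, 71]), (Mv.ref 4 2, [12, 26, 39, 71]), (Mv.ref 1 1, [9, 19, 47, 70]), (Mv.ref 3 3,
    [7, 17, 46, 69]), (Mv.ref 4 2, [4, 16, 46, 65]), (Mv.ref 1 1, [4, 16, 25, 65]),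
    (Mv.ref 3 3, [4, 16, 24, 63]), (Mv.ref 5 0, [3, 5, 24, 51]), (Mv.ref 4 2, [3, 5, 20,
    47]), (Mv.ref 1 1, [3, 5, 27, 39]), (Mv.ref 3 3, [3, 5, 27, 32]), (Mv.ref 5 0, [4, 11,
    16, 32]), (Mv.cj (9, 19) [], [0, 4, 7, 11, 16, 17, 32]), (Mv.cj (52, 62) [32, 32, 7,
    17], [0, 4, 11, 16, 28, 31]), (Mv.cj (9, 19) [4, 16], [0, 11, 28, 31]), (Mv.frame [28,
    31, 0, 48, 50, 8, 5, 3, 46, 1, 11], [0, 28, 31]), (Mv.ref 1 1, [1, 21, 23]), (Mv.cj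
    (49, 61) [], [1, 21, 23, 36, 56]), (Mv.cj (10, 22) [21, 23], [1, 36, 56]), (Mv.cj (71,
    71) [], [1, 36, 46, 56]), (Mv.cj (0, 0) [1], [36, 46, 56])],
    by decide +kernel⟩

theorem chain18_ok : ∃ j < 3, ∃ ch, chainB chevE6 rho [39, 48, 50, 44] ch (reps.getD j []) = true :=
  ⟨2, by omega,
    [(Mv.ref 3 3, [32, 44, 48, 50]), (Mv.ref 4 2, [27, 39, 48, 50]), (Mv.ref 1 1, [20, 40,
    43, 47]), (Mv.ref 3 3, [18, 37, 42, 46]), (Mv.ref 5 0, [6, 38, 46, 57]), (Mv.ref 4 2,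
    [2, 36, 46, 56]), (Mv.ref 1 1, [2, 25, 36, 56]), (Mv.ref 3 3, [1, 24, 36, 56]),
    (Mv.ref 5 0, [1, 15, 24, 35]), (Mv.ref 4 2, [1, 14, 20, 33]), (Mv.ref 1 1, [0, 14, 27,
    33]), (Mv.ref 3 3, [0, 13, 27, 30]), (Mv.ref 5 0, [0, 11, 28, 31]), (Mv.frame [28, 31,
    0, 48, 50, 8, 5, 3, 46, 1, 11], [0, 28, 31]), (Mv.ref 1 1, [1, 21, 23]), (Mv.cj (49,
    61) [], [1, 21, 23, 36, 56]), (Mv.cj (10, 22) [21, 23], [1, 36, 56]), (Mv.cj (71, 71)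
    [], [1, 36, 46, 56]), (Mv.cj (0, 0) [1], [36, 46, 56])],
    by decide +kernel⟩

theorem chain19_ok : ∃ j < 3, ∃ ch, chainB chevE6 rho [39, 44, 60] ch (reps.getD j []) = true :=
  ⟨2, by omega,
    [(Mv.ref 3 3, [32, 44, 60]), (Mv.ref 4 2, [27, 39, 60]), (Mv.ref 1 1, [20, 47, 63]),
    (Mv.ref 3 3, [18, 46, 65]), (Mv.cj (54, 64) [65], [18, 36, 46, 56]), (Mv.mu (7, 17),
    [36, 46, 56])],
    by decide +kernel⟩

theorem chain20_ok : ∃ j < 3, ∃ ch, chainB chevE6 rho [46, 53, 65] ch (reps.getD j []) = true :=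
  ⟨2, by omega,
    [(Mv.cj (36, 56) [65], [46, 53, 54, 64]), (Mv.mu (15, 35), [46, 54, 64]), (Mv.cj (4,
    16) [], [29, 34, 46, 54, 64]), (Mv.cj (55, 67) [64, 54], [29, 34, 46]), (Mv.cj (38,
    57) [], [29, 34, 36, 46, 56]), (Mv.cj (14, 33) [34, 29], [36, 46, 56])],
    by decide +kernel⟩

theorem chain21_ok : ∃ j < 3, ∃ ch, chainB chevE6 rho [39, 44, 60, 71] ch (reps.getD j []) = true :=
  ⟨2, by omega,
    [(Mv.ref 3 3, [32, 44, 60, 71]), (Mv.ref 4 2, [27, 39, 60, 71]), (Mv.ref 3 3, [27, 32,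
    60, 71]), (Mv.ref 5 0, [11, 32, 44, 71]), (Mv.ref 4 2, [11, 27, 39, 71]), (Mv.ref 1 1,
    [8, 20, 47, 70]), (Mv.ref 3 3, [6, 18, 46, 69]), (Mv.ref 4 2, [2, 18, 46, 65]),
    (Mv.ref 1 1, [2, 18, 25, 65]), (Mv.ref 3 3, [1, 20, 24, 63]), (Mv.ref 5 0, [1, 8, 24,
    51]), (Mv.ref 4 2, [1, 8, 20, 47]), (Mv.ref 1 1, [0, 11, 27, 39]), (Mv.ref 3 3, [0,
    11, 27, 32]), (Mv.cj (37, 42) [32], [0, 11, 27, 28, 31]), (Mv.mu (29, 34), [0, 11, 28,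
    31]), (Mv.frame [28, 31, 0, 48, 50, 8, 5, 3, 46, 1, 11], [0, 28, 31]), (Mv.ref 1 1,
    [1, 21, 23]), (Mv.cj (49, 61) [], [1, 21, 23, 36, 56]), (Mv.cj (10, 22) [21, 23], [1,
    36, 56]), (Mv.cj (71, 71) [], [1, 36, 46, 56]), (Mv.cj (0, 0) [1], [36, 46, 56])],
    by decide +kernel⟩

theorem chain22_ok : ∃ j < 3, ∃ ch, chainB chevE6 rho [46, 53, 65, 69] ch (reps.getD j []) = true :=
  ⟨2, by omega,
    [(Mv.ref 1 1, [25, 53, 65, 69]), (Mv.ref 3 3, [24, 51, 63, 70]), (Mv.ref 4 2, [20, 47,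
    63, 70]), (Mv.ref 3 3, [18, 46, 65, 69]), (Mv.ref 5 0, [6, 46, 53, 69]), (Mv.ref 4 2,
    [2, 46, 53, 65]), (Mv.ref 1 1, [2, 25, 53, 65]), (Mv.ref 3 3, [1, 24, 51, 63]),
    (Mv.ref 4 2, [1, 20, 47, 63]), (Mv.ref 1 1, [0, 27, 39, 60]), (Mv.ref 3 3, [0, 27, 32,
    60]), (Mv.ref 5 0, [0, 11, 32, 44]), (Mv.ref 4 2, [0, 11, 27, 39]), (Mv.ref 3 3, [0,
    11, 27, 32]), (Mv.cj (37, 42) [32], [0, 11, 27, 28, 31]), (Mv.mu (29, 34), [0, 11, 28,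
    31]), (Mv.frame [28, 31, 0, 48, 50, 8, 5, 3, 46, 1, 11], [0, 28, 31]), (Mv.ref 1 1,
    [1, 21, 23]), (Mv.cj (49, 61) [], [1, 21, 23, 36, 56]), (Mv.cj (10, 22) [21, 23], [1,
    36, 56]), (Mv.cj (71, 71) [], [1, 36, 46, 56]), (Mv.cj (0, 0) [1], [36, 46, 56])],
    by decide +kernel⟩

theorem chains : ∀ j < nodes.length, 0 < j → ∃ i < 3, ∃ ch,
    chainB chevE6 rho ((nodes.getD j ⟨[], [], []⟩).piv.flatMap rts) ch (reps.getD i []) = true := by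
  intro j h h0
  match j, h, h0 with
  | 0, _, h0 => exact absurd h0 (lt_irrefl 0)
  | 1, _, _ => exact chain1_ok
  | 2, _, _ => exact chain2_ok
  | 3, _, _ => exact chain3_ok
  | 4, _, _ => exact chain4_ok
  | 5, _, _ => exact chain5_ok
  | 6, _, _ => exact chain6_ok
  | 7, _, _ => exact chain7_ok
  | 8, _, _ => exact chain8_ok
  | 9, _, _ => exact chain9_ok
  | 10, _, _ => exact chain10_ok
  | 11, _, _ => exact chain11_ok
  | 12, _, _ => exact chain12_ok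
  | 13, _, _ => exact chain13_ok
  | 14, _, _ => exact chain14_ok
  | 15, _, _ => exact chain15_ok
  | 16, _, _ => exact chain16_ok
  | 17, _, _ => exact chain17_ok
  | 18, _, _ => exact chain18_ok
  | 19, _, _ => exact chain19_ok
  | 20, _, _ => exact chain20_ok
  | 21, _, _ => exact chain21_ok
  | 22, _, _ => exact chain22_ok
  | n + 23, h, _ => exact absurd h (by simp only [nodes, List.length_cons, List.length_nil]; omega)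

end Cfsg.Agent.H56.Inv.E62
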