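import Cfsg.Agent.H56.Inv.E62Data.Tables

/-!
The nodes of the certificate.
-/
set_option autoImplicit false
set_option maxRecDepth 100000

namespace Cfsg.Agent.H56.Inv.E62

open Cfsg.Lie Cfsg.Agent Cfsg.Agent.H56.Inv Cfsg.Agent.H56.Inv.Tw

theorem node0_ok : nodeB chevE6 rho cmb nodes 0 = true := by decide +kernel
theorem node1_ok : nodeB chevE6 rho cmb nodes 1 = true := by decide +kernel
theorem node2_ok : nodeB chevE6 rho cmb nodes 2 = true := by decide +kernel
theorem node3_ok : nodeB chevE6 rho cmb nodes 3 = true := by decide +kernel
theorem node4_ok : nodeB chevE6 rho cmb nodes 4 = true := by decide +kernel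
theorem node5_ok : nodeB chevE6 rho cmb nodes 5 = true := by decide +kernel
theorem node6_ok : nodeB chevE6 rho cmb nodes 6 = true := by decide +kernel
theorem node7_ok : nodeB chevE6 rho cmb nodes 7 = true := by decide +kernel
theorem node8_ok : nodeB chevE6 rho cmb nodes 8 = true := by decide +kernel
theorem node9_ok : nodeB chevE6 rho cmb nodes 9 = true := by decide +kernel
theorem node10_ok : nodeB chevE6 rho cmb nodes 10 = true := by decide +kernel
theorem node11_ok : nodeB chevE6 rho cmb nodes 11 = true := by decide +kernel
theorem node12_ok : nodeB chevE6 rho cmb nodes 12 = true := by decide +kernel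
theorem node13_ok : nodeB chevE6 rho cmb nodes 13 = true := by decide +kernel
theorem node14_ok : nodeB chevE6 rho cmb nodes 14 = true := by decide +kernel
theorem node15_ok : nodeB chevE6 rho cmb nodes 15 = true := by decide +kernel
theorem node16_ok : nodeB chevE6 rho cmb nodes 16 = true := by decide +kernel
theorem node17_ok : nodeB chevE6 rho cmb nodes 17 = true := by decide +kernel
theorem node18_ok : nodeB chevE6 rho cmb nodes 18 = true := by decide +kernel
theorem node19_ok : nodeB chevE6 rho cmb nodes 19 = true := by decide +kernel
theorem node20_ok : nodeB chevE6 rho cmb nodes 20 = true := by decide +kernel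
theorem node21_ok : nodeB chevE6 rho cmb nodes 21 = true := by decide +kernel
theorem node22_ok : nodeB chevE6 rho cmb nodes 22 = true := by decide +kernel

theorem nodes_ok : AllNodes cmb chevE6 rho nodes := by
  refine ⟨fun idx h => ?_, neg_ok⟩
  match idx, h with
  | 0, _ => exact node0_ok
  | 1, _ => exact node1_ok
  | 2, _ => exact node2_ok
  | 3, _ => exact node3_ok
  | 4, _ => exact node4_ok
  | 5, _ => exact node5_ok
  | 6, _ => exact node6_ok
  | 7, _ => exact node7_ok
  | 8, _ => exact node8_ok
  | 9, _ => exact node9_ok
  | 10, _ => exact node10_ok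
  | 11, _ => exact node11_ok
  | 12, _ => exact node12_ok
  | 13, _ => exact node13_ok
  | 14, _ => exact node14_ok
  | 15, _ => exact node15_ok
  | 16, _ => exact node16_ok
  | 17, _ => exact node17_ok
  | 18, _ => exact node18_ok
  | 19, _ => exact node19_ok
  | 20, _ => exact node20_ok
  | 21, _ => exact node21_ok
  | 22, _ => exact node22_ok
  | n + 23, h => exact absurd h (by simp only [nodes, List.length_cons, List.length_nil]; omega)

end Cfsg.Agent.H56.Inv.E62
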