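import Cfsg.Agent.H56.Inv.TwPivot
import Cfsg.Agent.H56.Inv.TwMove
import Cfsg.Agent.H37.Chev.All

/-!
Data for the twisted groups of type `E6` in characteristic two.
-/
set_option autoImplicit false
set_option maxRecDepth 100000

namespace Cfsg.Agent.H56.Inv.E62

open Cfsg.Lie Cfsg.Agent Cfsg.Agent.H56.Inv Cfsg.Agent.H56.Inv.Tw

/-- The symmetry, as a list. -/
def rhoL : List ℕ :=
    [0, 1, 2, 5, 16, 3, 6, 17, 8, 19, 22, 11, 26, 30, 33, 35, 4, 7, 18, 9, 20, 23, 10, 21, 24,
    25, 12, 27, 31, 34, 13, 28, 32, 14, 29, 15, 56, 42, 57, 39, 43, 58, 37, 40, 44, 59, 46, 47,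
    50, 61, 48, 51, 62, 53, 64, 67, 36, 38, 41, 45, 60, 49, 52, 63, 54, 65, 68, 55, 66, 69, 70,
    71]

/-- The symmetry. -/
def rho (r : ℕ) : ℕ := rhoL.getD r 0

/-- The weights. -/
def wt : List ℤ :=
    [-1108091009, -1108090945, -1107828801, -1091051585, -17309761, -1107824705, -1091047489,
    -17305665, -1090785345, -17043521, -266305, -1090785281, -17043457, -266241, -4097, -1,
    -1107824704, -1091047488, -17305664, -1090785344, -17043520, -266304, -1090781248,
    -17039424, -262208, -64, -1090785280, -17043456, -266240, -4096, -1090781184, -17039360,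
    -262144, -1090519040, -16777216, -1073741824, 1073741824, 16777216, 1090519040, 262144,
    17039360, 1090781184, 4096, 266240, 17043456, 1090785280, 64, 262208, 17039424, 1090781248,
    266304, 17043520, 1090785344, 17305664, 1091047488, 1107824704, 1, 4097, 266241, 17043457,
    1090785281, 266305, 17043521, 1090785345, 17305665, 1091047489, 1107824705, 17309761,
    1091051585, 1107828801, 1108090945, 1108091009]

/-- The sums of two positive roots. -/
def cmb : List (List (List ℕ)) :=
  [
    [[], [38], [], [], [41], [], [], [], [45], [], [], [], [49], [], [], [52], [], [54], [], [],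
    [], [], [], [60], [], [], [63], [], [65], [], [], [68], [], [], [], []],
    [[38], [], [], [40], [], [], [], [44], [], [], [], [48], [], [], [51], [], [], [], [55], [],
    [], [], [59], [], [], [62], [], [], [], [66], [], [], [69], [], [], []],
    [[], [], [], [41], [], [], [], [45], [], [], [], [49], [], [], [52], [], [], [55], [], [],
    [], [], [60], [], [], [63], [], [], [66], [], [], [69], [], [], [], []],
    [[], [40], [41], [], [], [], [43], [], [], [], [47], [], [], [], [], [53], [54], [], [], [],
    [], [58], [], [], [], [], [64], [65], [], [], [], [], [], [70], [], []],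
    [[41], [], [], [], [], [], [44], [], [], [], [48], [], [], [], [53], [], [55], [], [], [],
    [], [59], [], [], [], [64], [], [66], [], [], [], [], [70], [], [], []],
    [[], [], [], [], [], [], [45], [], [], [], [49], [], [], [], [54], [55], [], [], [], [], [],
    [60], [], [], [], [65], [66], [], [], [], [], [70], [], [], [], []],
    [[], [], [], [43], [44], [45], [], [], [], [], [], [50], [51], [52], [], [], [], [], [], [],
    [57], [], [], [], [], [], [], [], [67], [68], [69], [], [], [], [], []],
    [[], [44], [45], [], [], [], [], [], [], [], [50], [], [53], [54], [], [], [], [], [], [],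
    [58], [], [], [], [], [], [67], [68], [], [], [70], [], [], [], [], []],
    [[45], [], [], [], [], [], [], [], [], [], [51], [53], [], [55], [], [], [], [], [], [],
    [59], [], [], [], [], [67], [], [69], [], [70], [], [], [], [], [], []],
    [[], [], [], [], [], [], [], [], [], [], [52], [54], [55], [], [], [], [], [], [], [], [60],
    [], [], [], [], [68], [69], [], [70], [], [], [], [], [], [], []],
    [[], [], [], [47], [48], [49], [], [50], [51], [52], [], [], [], [], [], [], [], [], [], [],
    [], [], [61], [62], [63], [], [], [], [], [], [], [], [], [], [71], []],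
    [[], [48], [49], [], [], [], [50], [], [53], [54], [], [], [], [], [], [], [], [], [], [],
    [], [61], [], [64], [65], [], [], [], [], [], [], [], [], [71], [], []],
    [[49], [], [], [], [], [], [51], [53], [], [55], [], [], [], [], [], [], [], [], [], [], [],
    [62], [64], [], [66], [], [], [], [], [], [], [], [71], [], [], []],
    [[], [], [], [], [], [], [52], [54], [55], [], [], [], [], [], [], [], [], [], [], [], [],
    [63], [65], [66], [], [], [], [], [], [], [], [71], [], [], [], []],
    [[], [51], [52], [], [53], [54], [], [], [], [], [], [], [], [], [], [], [], [], [], [],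
    [61], [], [], [67], [68], [], [], [], [], [], [71], [], [], [], [], []],
    [[52], [], [], [53], [], [55], [], [], [], [], [], [], [], [], [], [], [], [], [], [], [62],
    [], [67], [], [69], [], [], [], [], [71], [], [], [], [], [], []],
    [[], [], [], [54], [55], [], [], [], [], [], [], [], [], [], [], [], [], [], [], [], [63],
    [], [68], [69], [], [], [], [], [71], [], [], [], [], [], [], []],
    [[54], [], [55], [], [], [], [], [], [], [], [], [], [], [], [], [], [], [], [], [], [64],
    [67], [], [], [70], [], [], [71], [], [], [], [], [], [], [], []],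
    [[], [55], [], [], [], [], [], [], [], [], [], [], [], [], [], [], [], [], [], [], [65],
    [68], [], [70], [], [], [71], [], [], [], [], [], [], [], [], []],
    [[], [], [], [], [], [], [], [], [], [], [], [], [], [], [], [], [], [], [], [], [66], [69],
    [70], [], [], [71], [], [], [], [], [], [], [], [], [], []],
    [[], [], [], [], [], [], [57], [58], [59], [60], [], [], [], [], [61], [62], [63], [64],
    [65], [66], [], [], [], [], [], [], [], [], [], [], [], [], [], [], [], []],
    [[], [], [], [58], [59], [60], [], [], [], [], [], [61], [62], [63], [], [], [], [67], [68],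
    [69], [], [], [], [], [], [], [], [], [], [], [], [], [], [], [], []],
    [[], [59], [60], [], [], [], [], [], [], [], [61], [], [64], [65], [], [67], [68], [], [],
    [70], [], [], [], [], [], [], [], [], [], [], [], [], [], [], [], []],
    [[60], [], [], [], [], [], [], [], [], [], [62], [64], [], [66], [67], [], [69], [], [70],
    [], [], [], [], [], [], [], [], [], [], [], [], [], [], [], [], []],
    [[], [], [], [], [], [], [], [], [], [], [63], [65], [66], [], [68], [69], [], [70], [], [],
    [], [], [], [], [], [], [], [], [], [], [], [], [], [], [], []],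
    [[], [62], [63], [], [64], [65], [], [], [67], [68], [], [], [], [], [], [], [], [], [],
    [71], [], [], [], [], [], [], [], [], [], [], [], [], [], [], [], []],
    [[63], [], [], [64], [], [66], [], [67], [], [69], [], [], [], [], [], [], [], [], [71], [],
    [], [], [], [], [], [], [], [], [], [], [], [], [], [], [], []],
    [[], [], [], [65], [66], [], [], [68], [69], [], [], [], [], [], [], [], [], [71], [], [],
    [], [], [], [], [], [], [], [], [], [], [], [], [], [], [], []],
    [[65], [], [66], [], [], [], [67], [], [], [70], [], [], [], [], [], [], [71], [], [], [],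
    [], [], [], [], [], [], [], [], [], [], [], [], [], [], [], []],
    [[], [66], [], [], [], [], [68], [], [70], [], [], [], [], [], [], [71], [], [], [], [], [],
    [], [], [], [], [], [], [], [], [], [], [], [], [], [], []],
    [[], [], [], [], [], [], [69], [70], [], [], [], [], [], [], [71], [], [], [], [], [], [],
    [], [], [], [], [], [], [], [], [], [], [], [], [], [], []],
    [[68], [], [69], [], [], [70], [], [], [], [], [], [], [], [71], [], [], [], [], [], [], [],
    [], [], [], [], [], [], [], [], [], [], [], [], [], [], []],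
    [[], [69], [], [], [70], [], [], [], [], [], [], [], [71], [], [], [], [], [], [], [], [],
    [], [], [], [], [], [], [], [], [], [], [], [], [], [], []],
    [[], [], [], [70], [], [], [], [], [], [], [], [71], [], [], [], [], [], [], [], [], [], [],
    [], [], [], [], [], [], [], [], [], [], [], [], [], []],
    [[], [], [], [], [], [], [], [], [], [], [71], [], [], [], [], [], [], [], [], [], [], [],
    [], [], [], [], [], [], [], [], [], [], [], [], [], []],
    [[], [], [], [], [], [], [], [], [], [], [], [], [], [], [], [], [], [], [], [], [], [], [],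
    [], [], [], [], [], [], [], [], [], [], [], [], []]]

/-- Node 0. -/
def node0 : Node where
  piv :=
    []
  sup :=
    [(46, 46), (39, 39), (47, 47), (37, 42), (40, 43), (48, 50), (44, 44), (51, 51), (53, 53),
    (36, 56), (38, 57), (41, 58), (49, 61), (45, 59), (52, 62), (54, 64), (55, 67), (60, 60),
    (63, 63), (65, 65), (66, 68), (69, 69), (70, 70), (71, 71)]
  ops :=
    [Op.piv 4 [Step.kill (39, 39) 47 [38, 40, 41, 43, 44, 45, 48, 49, 50, 51, 52, 53, 54, 55,
    57, 58, 59, 60, 61, 62, 63, 64, 65, 66, 67, 68, 69, 70, 71], Step.clear (47, 47) (39, 39)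
    none, Step.kill (40, 43) 48 [38, 41, 44, 45, 49, 50, 51, 52, 53, 54, 55, 57, 58, 59, 60, 61,
    62, 63, 64, 65, 66, 67, 68, 69, 70, 71], Step.clear (48, 50) (40, 43) none, Step.kill (44,
    44) 51 [38, 45, 49, 52, 54, 55, 57, 59, 60, 61, 62, 63, 64, 65, 66, 67, 68, 69, 70, 71],
    Step.clear (51, 51) (44, 44) none, Step.kill (41, 58) 49 [38, 45, 52, 54, 55, 57, 59, 60,
    61, 62, 63, 64, 65, 66, 67, 68, 69, 70, 71], Step.clear (49, 61) (41, 58) none, Step.kill
    (45, 59) 52 [38, 54, 55, 57, 60, 62, 63, 64, 65, 66, 67, 68, 69, 70, 71], Step.clear (52,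
    62) (45, 59) none, Step.kill (60, 60) 63 [38, 54, 55, 57, 64, 65, 66, 67, 68, 69, 70, 71],
    Step.clear (63, 63) (60, 60) none, Step.kill (70, 70) 71 [38, 54, 55, 57, 64, 65, 66, 67,
    68, 69], Step.clear (71, 71) (70, 70) none], Op.piv 3 [Step.clear (47, 47) (46, 46) none,
    Step.kill (37, 42) 40 [38, 41, 43, 44, 45, 49, 51, 52, 53, 54, 55, 57, 58, 59, 60, 61, 62,
    63, 64, 65, 66, 67, 68, 69, 70, 71], Step.clear (40, 43) (37, 42) none, Step.kill (51, 51)
    53 [41, 45, 49, 52, 54, 55, 58, 59, 60, 61, 62, 63, 64, 65, 66, 67, 68, 69, 70, 71],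
    Step.clear (53, 53) (51, 51) none, Step.kill (38, 57) 41 [45, 49, 52, 54, 55, 58, 59, 60,
    61, 62, 63, 64, 65, 66, 67, 68, 69, 70, 71], Step.clear (41, 58) (38, 57) none, Step.kill
    (52, 62) 54 [45, 49, 55, 59, 60, 61, 63, 64, 65, 66, 67, 68, 69, 70, 71], Step.clear (54,
    64) (52, 62) none, Step.kill (63, 63) 65 [45, 49, 55, 59, 60, 61, 66, 67, 68, 69, 70, 71],
    Step.clear (65, 65) (63, 63) none, Step.kill (69, 69) 70 [45, 49, 55, 59, 60, 61, 66, 67,
    68, 71], Step.clear (70, 70) (69, 69) none], Op.jump (25, 25) 1, Op.piv 2 [Step.clear (40,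
    43) (39, 39) (some (44, [38, 41, 45, 49, 51, 52, 53, 54, 55, 57, 58, 59, 60, 61, 62, 63, 64,
    65, 66, 67, 68, 69, 70, 71])), Step.clear (48, 50) (47, 47) (some (51, [38, 45, 49, 52, 54,
    55, 57, 59, 60, 61, 62, 63, 64, 65, 66, 67, 68, 69, 70, 71])), Step.clear (44, 44) (40, 43)
    none, Step.clear (51, 51) (48, 50) none, Step.kill (36, 56) 38 [45, 52, 54, 55, 57, 59, 60,
    62, 63, 64, 65, 66, 67, 68, 69, 70, 71], Step.clear (38, 57) (36, 56) none, Step.kill (41,
    58) 45 [52, 55, 59, 62, 65, 66, 67, 68, 69, 70, 71], Step.kill (49, 61) 52 [55, 62, 66, 67,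
    68, 69, 70, 71], Step.clear (45, 59) (41, 58) none, Step.clear (52, 62) (49, 61) none,
    Step.kill (54, 64) 55 [66, 67, 68, 69, 70, 71], Step.clear (55, 67) (54, 64) none, Step.kill
    (65, 65) 66 [68, 69, 70, 71], Step.clear (66, 68) (65, 65) (some (69, [70, 71])), Step.clear
    (69, 69) (66, 68) none], Op.jump (32, 32) 3, Op.jump (24, 24) 3, Op.jump (29, 34) 1, Op.jump
    (25, 25) 6, Op.jump (20, 20) 1, Op.piv 1 [Step.clear (38, 57) (37, 42) none, Step.clear (41,
    58) (40, 43) none, Step.clear (49, 61) (48, 50) none, Step.clear (45, 59) (44, 44) (some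
    (60, [63, 65, 66, 68, 69, 70, 71])), Step.clear (52, 62) (51, 51) (some (63, [65, 66, 68,
    71])), Step.clear (54, 64) (53, 53) (some (65, [66, 68])), Step.kill (55, 67) 66 [68],
    Step.clear (60, 60) (45, 59) none, Step.clear (63, 63) (52, 62) none, Step.clear (65, 65)
    (54, 64) none, Step.clear (66, 68) (55, 67) none], Op.jump (15, 35) 3, Op.jump (15, 35) 4,
    Op.jump (15, 35) 5, Op.jump (27, 27) 9, Op.jump (20, 20) 9, Op.jump (18, 18) 9, Op.jump (18,
    18) 10, Op.jump (14, 33) 1, Op.jump (11, 11) 0, Op.jump (8, 8) 1, Op.jump (6, 6) 3, Op.jump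
    (8, 8) 6, Op.jump (2, 2) 1, Op.jump (1, 1) 0]

/-- Node 1. -/
def node1 : Node where
  piv :=
    [(36, 56)]
  sup :=
    [(46, 46), (39, 39), (47, 47), (69, 69), (70, 70), (71, 71)]
  ops :=
    [Op.piv 6 [Step.kill (39, 39) 47 [70, 71], Step.clear (47, 47) (39, 39) none, Step.kill (70,
    70) 71 [], Step.clear (71, 71) (70, 70) none], Op.piv 5 [Step.clear (47, 47) (46, 46) none,
    Step.kill (69, 69) 70 [], Step.clear (70, 70) (69, 69) none], Op.jump (25, 25) 1, Op.piv 7
    [Step.clear (70, 70) (39, 39) none, Step.clear (71, 71) (47, 47) none], Op.jump (2, 2) 1,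
    Op.jump (1, 1) 0]

/-- Node 2. -/
def node2 : Node where
  piv :=
    [(37, 42)]
  sup :=
    [(46, 46), (53, 53), (60, 60), (63, 63), (70, 70), (71, 71)]
  ops :=
    [Op.piv 8 [Step.kill (60, 60) 63 [70, 71], Step.clear (63, 63) (60, 60) none, Step.kill (70,
    70) 71 [], Step.clear (71, 71) (70, 70) none], Op.piv 9 [Step.kill (60, 60) 70 [71],
    Step.kill (63, 63) 71 [], Step.clear (70, 70) (60, 60) none, Step.clear (71, 71) (63, 63)
    none], Op.piv 10 [Step.clear (63, 63) (46, 46) none, Step.clear (70, 70) (53, 53) none],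
    Op.jump (11, 11) 0, Op.jump (11, 11) 1, Op.jump (1, 1) 0]

/-- Node 3. -/
def node3 : Node where
  piv :=
    [(39, 39)]
  sup :=
    [(48, 50), (44, 44), (36, 56), (49, 61), (45, 59), (55, 67), (60, 60), (66, 68), (71, 71)]
  ops :=
    [Op.piv 12 [Step.kill (36, 56) 49 [45, 55, 59, 60, 61, 66, 67, 68, 71], Step.clear (49, 61)
    (36, 56) none, Step.kill (45, 59) 55 [66, 67, 68, 71], Step.clear (55, 67) (45, 59) none,
    Step.kill (60, 60) 66 [68, 71], Step.clear (66, 68) (60, 60) (some (71, [])), Step.clear
    (71, 71) (66, 68) none], Op.piv 11 [Step.kill (36, 56) 45 [55, 59, 60, 66, 67, 68, 71],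
    Step.kill (49, 61) 55 [66, 67, 68, 71], Step.clear (45, 59) (36, 56) none, Step.clear (55,
    67) (49, 61) none], Op.piv 5 [Step.clear (49, 61) (48, 50) none, Step.clear (45, 59) (44,
    44) (some (60, [66, 68])), Step.kill (55, 67) 66 [68], Step.clear (60, 60) (45, 59) none,
    Step.clear (66, 68) (55, 67) none], Op.jump (15, 35) 0, Op.jump (27, 27) 2, Op.jump (21, 23)
    4, Op.jump (15, 35) 1, Op.jump (11, 11) 0, Op.jump (10, 22) 1]

/-- Node 4. -/
def node4 : Node where
  piv :=
    [(46, 46)]
  sup :=
    [(37, 42), (53, 53), (36, 56), (38, 57), (54, 64), (55, 67), (65, 65), (66, 68), (69, 69)]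
  ops :=
    [Op.piv 8 [Step.kill (36, 56) 38 [54, 55, 57, 64, 65, 66, 67, 68, 69], Step.clear (38, 57)
    (36, 56) none, Step.kill (54, 64) 55 [66, 67, 68, 69], Step.clear (55, 67) (54, 64) none,
    Step.kill (65, 65) 66 [68, 69], Step.clear (66, 68) (65, 65) (some (69, [])), Step.clear
    (69, 69) (66, 68) none], Op.piv 13 [Step.kill (36, 56) 54 [55, 64, 65, 66, 67, 68, 69],
    Step.kill (38, 57) 55 [66, 67, 68, 69], Step.clear (54, 64) (36, 56) none, Step.clear (55,
    67) (38, 57) none], Op.piv 6 [Step.clear (38, 57) (37, 42) none, Step.clear (54, 64) (53,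
    53) (some (65, [66, 68])), Step.kill (55, 67) 66 [68], Step.clear (65, 65) (54, 64) none,
    Step.clear (66, 68) (55, 67) none], Op.jump (15, 35) 0, Op.jump (18, 18) 2, Op.jump (18, 18)
    3, Op.jump (15, 35) 1, Op.jump (6, 6) 0, Op.jump (14, 33) 1]

/-- Node 5. -/
def node5 : Node where
  piv :=
    [(39, 39), (36, 56)]
  sup :=
    [(71, 71)]
  ops :=
    [Op.piv 14 []]

/-- Node 6. -/
def node6 : Node where
  piv :=
    [(46, 46), (36, 56)]
  sup :=
    [(69, 69)]
  ops :=
    [Op.piv 15 []]

/-- Node 7. -/
def node7 : Node where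
  piv :=
    [(36, 56), (69, 69)]
  sup :=
    [(46, 46)]
  ops :=
    [Op.piv 15 []]

/-- Node 8. -/
def node8 : Node where
  piv :=
    [(46, 46), (37, 42)]
  sup :=
    [(53, 53)]
  ops :=
    [Op.piv 16 []]

/-- Node 9. -/
def node9 : Node where
  piv :=
    [(37, 42), (53, 53)]
  sup :=
    [(46, 46)]
  ops :=
    [Op.piv 16 []]

/-- Node 10. -/
def node10 : Node where
  piv :=
    [(37, 42), (60, 60)]
  sup :=
    [(71, 71)]
  ops :=
    [Op.piv 17 []]

/-- Node 11. -/
def node11 : Node where
  piv :=
    [(39, 39), (44, 44)]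
  sup :=
    [(48, 50), (60, 60), (66, 68), (71, 71)]
  ops :=
    [Op.piv 18 [Step.kill (60, 60) 66 [68, 71], Step.clear (66, 68) (60, 60) (some (71, [])),
    Step.clear (71, 71) (66, 68) none], Op.piv 19 [Step.clear (66, 68) (48, 50) none], Op.jump
    (11, 11) 0, Op.jump (21, 23) 1]

/-- Node 12. -/
def node12 : Node where
  piv :=
    [(39, 39), (48, 50)]
  sup :=
    [(44, 44)]
  ops :=
    [Op.piv 18 []]

/-- Node 13. -/
def node13 : Node where
  piv :=
    [(46, 46), (53, 53)]
  sup :=
    [(37, 42), (65, 65), (66, 68), (69, 69)]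
  ops :=
    [Op.piv 16 [Step.kill (65, 65) 66 [68, 69], Step.clear (66, 68) (65, 65) (some (69, [])),
    Step.clear (69, 69) (66, 68) none], Op.piv 20 [Step.clear (66, 68) (37, 42) none], Op.jump
    (6, 6) 0, Op.jump (29, 34) 1]

/-- Node 14. -/
def node14 : Node where
  piv :=
    [(39, 39), (36, 56), (71, 71)]
  sup :=
    []
  ops :=
    []

/-- Node 15. -/
def node15 : Node where
  piv :=
    [(46, 46), (36, 56), (69, 69)]
  sup :=
    []
  ops :=
    []

/-- Node 16. -/
def node16 : Node where
  piv :=
    [(46, 46), (37, 42), (53, 53)]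
  sup :=
    []
  ops :=
    []

/-- Node 17. -/
def node17 : Node where
  piv :=
    [(37, 42), (60, 60), (71, 71)]
  sup :=
    []
  ops :=
    []

/-- Node 18. -/
def node18 : Node where
  piv :=
    [(39, 39), (48, 50), (44, 44)]
  sup :=
    []
  ops :=
    []

/-- Node 19. -/
def node19 : Node where
  piv :=
    [(39, 39), (44, 44), (60, 60)]
  sup :=
    [(71, 71)]
  ops :=
    [Op.piv 21 []]

/-- Node 20. -/
def node20 : Node where
  piv :=
    [(46, 46), (53, 53), (65, 65)]
  sup :=
    [(69, 69)]
  ops :=
    [Op.piv 22 []]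

/-- Node 21. -/
def node21 : Node where
  piv :=
    [(39, 39), (44, 44), (60, 60), (71, 71)]
  sup :=
    []
  ops :=
    []

/-- Node 22. -/
def node22 : Node where
  piv :=
    [(46, 46), (53, 53), (65, 65), (69, 69)]
  sup :=
    []
  ops :=
    []

/-- The nodes. -/
def nodes : List Node :=
    [node0, node1, node2, node3, node4, node5, node6, node7, node8, node9, node10, node11,
    node12, node13, node14, node15, node16, node17, node18, node19, node20, node21, node22]

/-- The three representatives. -/
def reps : List (List ℕ) := [[46], [37, 42], [36, 56, 46]]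

end Cfsg.Agent.H56.Inv.E62
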