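import Cfsg.Agent.H56.Inv.E62Data.Defs

/-!
The combination table of the twisted groups of type `E6`.
-/
set_option autoImplicit false
set_option maxRecDepth 100000

namespace Cfsg.Agent.H56.Inv.E62

open Cfsg.Lie Cfsg.Agent Cfsg.Agent.H56.Inv Cfsg.Agent.H56.Inv.Tw

theorem cmb_ok : Gen.cmbOk chevE6 wt cmb = true := by decide +kernel

end Cfsg.Agent.H56.Inv.E62
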