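import Cfsg.Agent.H56.Inv.E62Data.Table

/-!
The tables of the twisted groups of type `E6`.
-/
set_option autoImplicit false
set_option maxRecDepth 100000

namespace Cfsg.Agent.H56.Inv.E62

open Cfsg.Lie Cfsg.Agent Cfsg.Agent.H56.Inv Cfsg.Agent.H56.Inv.Tw

theorem bnd_ok : Gen.bndB chevE6 (Chevalley.E6.tab.cf chevE6) = true := by decide +kernel

theorem wt_ok : ∀ r < chevE6.nroots, wt.getD r 0 = Gen.wtOf chevE6 (Chevalley.E6.tab.cf chevE6) r := by
  decide +kernel

theorem tables : Gen.Tables chevE6 (Chevalley.E6.tab.cf chevE6) cmb :=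
  ⟨bnd_ok, wt, cmb_ok, wt_ok⟩

theorem neg_ok : (List.range chevE6.nroots).all
    (fun r => decide (rho (chevE6.neg r) = chevE6.neg (rho r))) = true := by decide +kernel

end Cfsg.Agent.H56.Inv.E62
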